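import Mathlib
import Cfsg.Agent.Base
import Cfsg.Agent.Lib.Functor.Sect

/-!
Thompson's normal `p`-complement criterion in functor form.
-/

set_option autoImplicit false

namespace H59

open Subgroup Cfsg H69
open scoped commutatorElement Pointwise

universe u

section Basic

variable {G : Type*} [Group G] {p : ℕ} [Finite G] [hp : Fact p.Prime]

theorem exists_agree_of_npc {H T A : Subgroup G} (hH : HasNormalPComplement p H)
    (hT : IsSylowIn p T H) (hA : A ≤ T) {h : G} (hh : h ∈ H) (hAh : A ^ᶜ h ≤ T) :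
    ∃ t ∈ T, Agree A t h := by
  obtain ⟨P, hP⟩ := hT.exists_sylow_subgroupOf
  haveI := H4.pResidual_normal p H
  obtain ⟨v, hv, e⟩ := H4.controls_fusion_of_isComplement' (H4.isComplement'_pResidual hH P)
    (A := (A.subgroupOf H : Set H)) (g := ⟨h, hh⟩)
    (by rw [hP]; exact fun a ha => hA ha) (by rw [hP]; exact fun a ha => hAh (cj_mem h ha))
  rw [hP] at hv
  exact ⟨v, hv, fun a ha => congrArg Subtype.val (e ⟨a, hT.le (hA ha)⟩ ha)⟩

theorem res_le_centralizer_of_npc {H Q : Subgroup G} (hH : HasNormalPComplement p H)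
    (hQ : IsPGroup p Q) (hQH : Q ≤ H) (hn : H ≤ 𝐍(Q)) : 𝐑(p, H) ≤ 𝐂(Q) :=
  res_le_iff.2 fun _ hg hc => H4.mem_centralizer_of_hasNormalPComplement hH hQ hQH hg (hn hg) hc

theorem npc_of_quotient_of_res_le {Q : Subgroup G} [Q.Normal]
    (hq : HasNormalPComplement p (G ⧸ Q)) (h : pResidual p G ≤ 𝐂(Q)) :
    HasNormalPComplement p G := by
  obtain ⟨S, hS⟩ := exists_isSylowIn p (pResidual p G)
  refine (H4.hasNormalPComplement_iff_of_pResidual_le le_rfl).2
    (hasNormalPComplement_of_central hS ((inf_le_left.trans h).trans (centralizer_anti ?_)))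
  have h1 : S.map (QuotientGroup.mk' Q) = ⊥ :=
    eq_bot_of_not_dvd (hS.isP.map _) ((map_mono hS.le).trans (H4.map_pResidual_le _))
      (H4.hasNormalPComplement_iff_not_dvd.1 hq)
  rwa [Subgroup.map_eq_bot_iff, QuotientGroup.ker_mk'] at h1

theorem npc_of_map_subtype {H : Subgroup G} {K : Subgroup H}
    (h : HasNormalPComplement p (K.map H.subtype)) : HasNormalPComplement p K :=
  H4.hasNormalPComplement_of_equiv h (K.equivMapOfInjective _ H.subtype_injective).symm

theorem npc_of_fus {S M : Subgroup G} (hS : IsSylowIn p S ⊤) (hSM : S ≤ M)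
    (hM : HasNormalPComplement p M) (h : Fus M ⊤ S) : HasNormalPComplement p G := by
  obtain ⟨P, rfl⟩ := hS.exists_sylow_top
  refine H4.hasNormalPComplement_of_controls_fusion P hSM hM fun x hx g hg => ?_
  obtain ⟨v, hv, e⟩ := h (zpowers x) g (zpowers_le.2 hx) (mem_top g)
    (by rw [cj_zpowers]; exact zpowers_le.2 hg)
  exact ⟨v, hv.2, e x (mem_zpowers x)⟩

end Basic

variable {p : ℕ} [hp : Fact p.Prime] {W : GF.{u}}

/-- The hypothesis of the criterion, for one group. -/
def NilHyp (p : ℕ) (W : GF.{u}) (Y : Type u) [Group Y] : Prop :=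
  Constr p Y → HasNormalPComplement p (Y ⧸ pCore p Y) → ∀ T : Subgroup Y, IsSylowIn p T ⊤ →
    IsCoatom T → (inducedFunctor W T).Normal

theorem NilHyp.of_equiv (hW : IsCharPFunctor.{u} p W) {X Y : Type u} [Group X] [Group Y]
    [Finite X] (e : X ≃* Y) (h : NilHyp p W X) : NilHyp p W Y := by
  haveI : Finite Y := Finite.of_equiv X e.toEquiv
  intro hc hq T hT hm
  have h1 := h (H57.charP_of_equiv e.symm hc)
    (H4.hasNormalPComplement_of_equiv hq (QuotientGroup.congr _ _ e.symm (H1.map_pCore_equiv _)))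
    (T.map e.symm.toMonoidHom) (isSylowIn_map_top hT e.symm.surjective)
    ((e.symm.mapSubgroup.isCoatom_iff T).2 hm)
  have h2 := h1.map e.toMonoidHom e.surjective
  rw [H57.map_inducedFunctor hW _ e.injective _ (hT.isP.map _), Subgroup.map_map] at h2
  convert h2
  ext x
  simp

theorem npc_step (hW : IsCharPFunctor.{u} p W) {G : Type u} [Group G] [Finite G]
    (hloc : NilHyp p W G)
    (ih : ∀ (Y : Type u) [Group Y] [Finite Y], Involves Y G → Nat.card Y < Nat.card G →
      ∀ T : Subgroup Y, IsSylowIn p T ⊤ → HasNormalPComplement p 𝐍(inducedFunctor W T) →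
        HasNormalPComplement p Y)
    {S : Subgroup G} (hS : IsSylowIn p S ⊤) (hN : HasNormalPComplement p 𝐍(inducedFunctor W S)) :
    HasNormalPComplement p G := by
  have hW' : IsConjugacyFunctor p (inducedFunctor (G := G) W) := H57.isConjugacyFunctor_induced hW
  have hsub : ∀ H T : Subgroup G, H ≠ ⊤ → IsSylowIn p T H →
      HasNormalPComplement p 𝐍(inducedFunctor W T) → HasNormalPComplement p H := by
    intro H T hH hT h
    refine ih H (H57.involves_subgroup H) (card_subgroup_lt hH) _ hT.subgroupOf_top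
      (npc_of_map_subtype ?_)
    rw [map_subtype_normalizer, H57.map_inducedFunctor hW _ H.subtype_injective _
      (isPGroup_subgroupOf hT.isP H), map_subgroupOf_eq_of_le hT.le]
    exact H4.hasNormalPComplement_of_subgroup_le h inf_le_right
  have hstar : ∀ H, S ≤ H → H ≠ ⊤ → HasNormalPComplement p H := fun H hSH hH =>
    hsub H S hH (hS.mono hSH le_top) hN
  have htop : 𝐍(inducedFunctor W S) = ⊤ → HasNormalPComplement p G := fun e => by
    rw [e] at hN
    exact H4.hasNormalPComplement_top_iff.1 hN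
  by_cases hQ : pCore p G = ⊥
  · have hne : ∀ T ≤ S, T ≠ ⊥ → 𝐍(T) ≠ ⊤ := fun T hT h0 =>
      normalizer_ne_top_of_not_le (hS.isP.to_le hT) (by rwa [hQ, le_bot_iff])
    have key := WP.induction hW' hS.isP (L := ⊤) (fun T => T ≠ ⊥ → HasNormalPComplement p 𝐍(T))
      (fun T hT hn h0 => hstar _ hn (hne T hT.extr.le h0))
      (fun T hT _ ih' h0 => hsub _ (S ⊓ 𝐍(T)) (hne T hT.extr.le h0) (by simpa using hT.extr.syl)
        (ih' (hT.next_ne_bot hW' hS.isP h0)))
    refine npc_of_fus hS (le_normalizer.trans (cf_normalizer hW' hS.isP)) hN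
      (fus_of_wp hW' hS fun T hT h0 A h hA hh hAh => ?_)
    obtain ⟨t, ht, e⟩ := exists_agree_of_npc (key T hT h0) (by simpa using hT.extr.syl) hA hh.2 hAh
    exact ⟨t, ⟨⟨mem_top _, ht.2⟩, cf_normalizer hW' hS.isP.to_inf_left (le_normalizer ht)⟩, e⟩
  set Q := pCore p G with hQd
  have hQS : Q ≤ S := pCore_le_of_sylow hS
  have hQn : (⊤ : Subgroup G) ≤ 𝐍(Q) := normal_iff_top_le_normalizer.1 inferInstance
  by_cases hSQ : S ≤ Q
  · refine htop (top_le_iff.1 (le_trans ?_ (cf_normalizer hW' hS.isP)))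
    rwa [le_antisymm hSQ hQS]
  have hq : HasNormalPComplement p (G ⧸ Q) := by
    refine ih _ (H57.involves_quotient _) (card_quotient_lt hQ) _
      (isSylowIn_map_top hS (QuotientGroup.mk'_surjective Q)) ?_
    rw [← map_comap_eq_self_of_surjective (QuotientGroup.mk'_surjective Q) 𝐍(_)]
    exact H4.hasNormalPComplement_map (hstar _ (le_comap_normalizer_induced hW _ hS.isP)
      (comap_normalizer_induced_ne_top hW hS.isP hSQ)) _
  by_cases hK : pPrimeCore p G = ⊥
  swap
  · refine H4.hasNormalPComplement_of_quotient_coprime H1.not_dvd_card_pPrimeCore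
      (ih _ (H57.involves_quotient _) (card_quotient_lt hK) _
        (isSylowIn_map_top hS (QuotientGroup.mk'_surjective _)) ?_)
    rw [map_normalizer_induced hW H1.coprime_card_pPrimeCore hS.isP]
    exact H4.hasNormalPComplement_map hN _
  have hn : (⊤ : Subgroup G) ≤ 𝐍(𝐂(Q)) := le_normalizer_centralizer hQn
  by_cases hC : S ⊓ 𝐂(Q) ≤ Q
  swap
  · refine npc_of_quotient_of_res_le hq ?_
    have hSN : S ≤ 𝐍(S ⊓ 𝐂(Q)) := le_normalizer_inf le_normalizer (le_top.trans hn)
    have h1 := res_le_centralizer_of_npc (hstar _ hSN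
      (normalizer_ne_top_of_not_le hS.isP.to_inf_left hC)) H1.isPGroup_pCore (hQS.trans hSN)
      (le_top.trans hQn)
    have h2 := (hS.inf_normal le_top hn).frattini_sup le_top hn
    rw [top_inf_eq, ← (hS.mono hSN le_top).sup_res] at h2
    have h3 : 𝐂(Q) ⊔ S = ⊤ :=
      top_le_iff.1 (h2.ge.trans (sup_le le_sup_left (sup_le le_sup_right (h1.trans le_sup_left))))
    have h4 := res_sup_le (K := 𝐂(Q)) hS.isP (le_top.trans hn)
    rwa [h3, res_top] at h4
  have hc : Constr p G := by
    have := centralizer_le_sup_pPrimeCore hS hC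
    rwa [hK, sup_bot_eq] at this
  by_cases hST : S = ⊤
  · exact H4.hasNormalPComplement_of_isPGroup (isPGroup_top_iff.1 (hST ▸ hS.isP))
  refine htop (normalizer_eq_top_iff.2 (hloc hc hq S hS ⟨hST, fun H hH => ?_⟩))
  by_contra hH'
  have h1 := res_le_centralizer_of_npc (hstar H hH.le hH') H1.isPGroup_pCore (hQS.trans hH.le)
    (le_top.trans hQn)
  exact hH.ne' (hS.max H hH.le le_top (isPGroup_of_res_le H1.isPGroup_pCore (h1.trans hc)))

/-- Thompson's normal `p`-complement criterion in functor form. -/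
theorem npc_of_sections (hW : IsCharPFunctor.{u} p W) {G : Type u} [Group G] [Finite G]
    (hloc : ∀ (Y : Type u) [Group Y] [Finite Y], Involves Y G → NilHyp p W Y)
    {S : Subgroup G} (hS : IsSylowIn p S ⊤) (hN : HasNormalPComplement p 𝐍(inducedFunctor W S)) :
    HasNormalPComplement p G :=
  involves_induction (fun X _ _ => ∀ T : Subgroup X, IsSylowIn p T ⊤ →
      HasNormalPComplement p 𝐍(inducedFunctor W T) → HasNormalPComplement p X)
    (fun X _ _ hX ih _ hT h => npc_step hW (hloc X hX) ih hT h) G (H57.involves_self G) S hS hN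

end H59
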