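import Mathlib
import Cfsg.Agent.Base
import Cfsg.Agent.Lib.Functor.Ess
import Cfsg.Agent.Lib.Functor.Gold
import Cfsg.Agent.Lib.Fusion.Resist2
import Cfsg.Agent.Lib.TwoFusion.QD
import Cfsg.Agent.Lib.BG4.Critical

/-!
# From fusion systems of groups to control of fusion; metacyclic Sylow subgroups
-/

set_option autoImplicit false

namespace H59

open Subgroup Cfsg H69
open scoped commutatorElement Pointwise

variable {G : Type*} [Group G] {p : ℕ}

/-- Conjugation by `g`, restricted to `A`. -/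
def cjHom (A : Subgroup G) (g : G) : A →* G := (MulAut.conj g).toMonoidHom.comp A.subtype

theorem cjHom_mem {S A : Subgroup G} {g : G} (hA : A ≤ S) (hg : A ^ᶜ g ≤ S) :
    cjHom A g ∈ (groupFusionSystem S).Hom A :=
  ⟨hA, fun x => hg (cj_mem g x.2), g, fun _ => rfl⟩

theorem fus_of_isNormal {S Q : Subgroup G} (h : (groupFusionSystem S).IsNormal Q) :
    Fus 𝐍(Q) ⊤ S := by
  intro A g hA _ hg
  obtain ⟨ψ, ⟨-, -, x, hx⟩, h1, h2⟩ := h.2 A _ (cjHom_mem hA hg)
  refine ⟨x, ⟨mem_top _, cj_eq_self_iff.1 ?_⟩, fun a ha => ?_⟩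
  · refine le_antisymm ?_ fun y hy => ?_
    · rintro _ ⟨y, hy, rfl⟩
      rw [← h2]
      exact ⟨⟨y, mem_sup_right hy⟩, hy, hx _⟩
    · rw [← h2] at hy
      obtain ⟨z, hz, rfl⟩ := hy
      rw [hx]
      exact cj_mem x hz
  · exact (hx _).symm.trans (h1 ⟨a, ha⟩)

theorem fus_of_eq_inner {S : Subgroup G} (h : groupFusionSystem S = innerFusionSystem S) :
    Fus S ⊤ S := by
  intro A g hA _ hg
  have := cjHom_mem hA hg
  rw [h] at this
  obtain ⟨-, x, hx, e⟩ := this
  exact ⟨x, ⟨mem_top _, hx⟩, fun a ha => (e ⟨a, ha⟩).symm⟩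

theorem Fus.elt' {M L S : Subgroup G} (h : Fus M L S) {x g : G} (hx : x ∈ S) (hg : g ∈ L)
    (hxg : g * x * g⁻¹ ∈ S) : ∃ m ∈ L ⊓ M, m * x * m⁻¹ = g * x * g⁻¹ := by
  obtain ⟨m, hm, e⟩ := fus_iff.1 h {x} g hg (by simpa using hx) (by simpa using hxg)
  exact ⟨m, hm, e x rfl⟩

theorem map_sq_eq_one_of_conj_eq_inv {A : Type*} [Group A] (hA : ∀ a b : A, a * b = b * a)
    (f : G →* A) {a b : G} (h : b * a * b⁻¹ = a⁻¹) : f a ^ 2 = 1 := by
  have := congrArg f h
  rw [map_mul, map_mul, hA (f b), map_inv, mul_inv_cancel_right, map_inv] at this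
  rw [pow_two]
  nth_rewrite 1 [this]
  exact inv_mul_cancel _

/-- An abelian image of a `2`-group of maximal class has exponent at most two. -/
theorem map_sq_eq_one_of_maxCl [Finite G] (h : H93.MaxCl G) {A : Type*} [Group A]
    (hA : ∀ a b : A, a * b = b * a) (f : G →* A) (x : G) : f x ^ 2 = 1 := by
  rcases h with ⟨k, ⟨e⟩⟩ | h | ⟨k, ⟨e⟩⟩
  · obtain ⟨y, rfl⟩ := e.symm.surjective x
    change (f.comp e.symm.toMonoidHom) y ^ 2 = 1
    rcases y with i | i
    · exact map_sq_eq_one_of_conj_eq_inv hA _ (b := DihedralGroup.sr 0) (by simp)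
    · rw [← map_pow, pow_two, DihedralGroup.sr_mul_self, map_one]
  · obtain ⟨k, a, b, h⟩ := H41.exists_qd_top h
    obtain ⟨j, hj⟩ := h.exists_conj_shift 0 1
    have h1 : f a ^ 2 = 1 := by
      have := congrArg f hj
      simp only [map_mul, map_inv, zpow_zero, one_mul, zero_add, mul_one] at this
      rw [hA _ (f b), mul_inv_cancel_right, map_zpow] at this
      exact_mod_cast (mul_eq_right.1 this.symm)
    have h2 : ∀ i : ℤ, f (a ^ i) ^ 2 = 1 := fun i => by
      rw [map_zpow, ← zpow_natCast, ← zpow_mul, mul_comm, zpow_mul, zpow_natCast, h1, one_zpow]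
    obtain ⟨i, rfl | rfl⟩ := (h.mem x).1 (mem_top x)
    · exact h2 i
    · rw [map_mul, Commute.mul_pow (hA _ _), h2, one_mul, ← map_pow, pow_two, h.yy, map_one]
  · obtain ⟨y, rfl⟩ := e.symm.surjective x
    change (f.comp e.symm.toMonoidHom) y ^ 2 = 1
    have h1 : ∀ i, (f.comp e.symm.toMonoidHom) (QuaternionGroup.a i) ^ 2 = 1 := fun i =>
      map_sq_eq_one_of_conj_eq_inv hA _ (b := QuaternionGroup.xa 0) (by
        rw [mul_inv_eq_iff_eq_mul, eq_inv_mul_iff_mul_eq]
        simp)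
    rcases y with i | i
    · exact h1 i
    · rw [← map_pow, QuaternionGroup.xa_sq, ← h1 ((2 ^ k : ℕ) : ZMod _), ← map_pow, pow_two,
        QuaternionGroup.a_mul_a]
      congr 2
      push_cast
      ring

variable [Finite G] [hp : Fact p.Prime]

theorem npc_of_fus_top (S : Sylow p G) (h : Fus (S : Subgroup G) ⊤ (S : Subgroup G)) : HasNormalPComplement p G := by
  rw [H4.hasNormalPComplement_iff_controls_fusion S]
  intro x hx g hg
  obtain ⟨m, hm, e⟩ := h.elt' hx (mem_top g) hg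
  exact ⟨m, hm.2, e⟩

/-- The normalizer of a metacyclic Sylow subgroup controls fusion, except for `2`-groups of maximal
class. -/
theorem fus_of_isMetacyclic (S : Sylow p G) (hm : IsMetacyclic (S : Subgroup G))
    (h : ¬ (p = 2 ∧ H93.MaxCl (S : Subgroup G))) : Fus 𝐍((S : Subgroup G)) ⊤ (S : Subgroup G) :=
  fus_of_isNormal (H93.isNormal_of_isMetacyclic S.isPGroup' (H93.isSaturated_groupFusionSystem S)
    ⟨le_rfl, fun _ _ _ hφ => hφ.2.1⟩ hm h)

omit hp in
theorem npc_of_isMetacyclic (S : Sylow 2 G) (hm : IsMetacyclic (S : Subgroup G))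
    (h1 : ¬ ∃ n : ℕ, 0 < n ∧ Nonempty ((S : Subgroup G) ≃*
      Multiplicative (ZMod (2 ^ n)) × Multiplicative (ZMod (2 ^ n))))
    (h2 : ¬ H93.MaxCl (S : Subgroup G)) : HasNormalPComplement 2 G :=
  npc_of_fus_top S (fus_of_eq_inner (H93.Super.eq_inner S.isPGroup' (H93.isSaturated_groupFusionSystem S)
    (H93.super_of_isMetacyclic S.isPGroup' (H93.isSaturated_groupFusionSystem S) hm h1
      fun h => h2 h.2)))

theorem dvd_sq_sub_one_of_index_frattini (hG : IsPGroup p G) (h : (frattini G).index ≤ p ^ 2)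
    {q : ℕ} (hq : q.Prime) (hqp : q ≠ p) (a : MulAut G) (ha : orderOf a = q) : q ∣ p ^ 2 - 1 := by
  have hinv : ∀ a : MulAut G, ∀ x ∈ frattini G, MonoidHom.id (MulAut G) a x ∈ frattini G :=
    fun a x hx => (Subgroup.characteristic_iff_le_comap.1 inferInstance a) hx
  refine H48.dvd_of_orderOf_mulAut_eq (hG.to_quotient (frattini G)) h hq hqp
    (H2.quotAut _ (frattini G) hinv a) ?_
  have : Fact q.Prime := ⟨hq⟩
  apply orderOf_eq_prime
  · rw [← map_pow, ← ha, pow_orderOf_eq_one, map_one]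
  · intro h1
    have := H5.aut_eq_one_of_frattini hG a (by rw [ha]; exact (Nat.coprime_primes hq hp.out).2 hqp)
      fun x => by
        rw [← QuotientGroup.eq]
        have := H2.quotAut_mk _ (frattini G) hinv a x
        rw [h1] at this
        exact this
    rw [this, orderOf_one] at ha
    exact hq.one_lt.ne ha

/-- An automorphism of order prime to `p(p² - 1)` of a two-generated `p`-group is trivial. -/
theorem aut_eq_one_of_index_frattini (hG : IsPGroup p G) (h : (frattini G).index ≤ p ^ 2)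
    (a : MulAut G) (h1 : (orderOf a).Coprime p) (h2 : (orderOf a).Coprime (p ^ 2 - 1)) : a = 1 := by
  by_contra hne
  obtain ⟨q, hq, hd⟩ := Nat.exists_prime_and_dvd (n := orderOf a) (by rwa [Ne, orderOf_eq_one_iff])
  have hqp : q ≠ p := by
    rintro rfl
    exact hq.one_lt.ne' (Nat.Coprime.eq_one_of_dvd h1.symm hd)
  have := dvd_sq_sub_one_of_index_frattini hG h hq hqp _
    (orderOf_pow_orderOf_div (orderOf_pos a).ne' hd)
  exact hq.one_lt.ne' (Nat.Coprime.eq_one_of_dvd (Nat.Coprime.coprime_dvd_left hd h2) this)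

end H59
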